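import Mathlib

/-!
# Involutions and subgroups of odd order
-/

set_option autoImplicit false
set_option linter.unusedSectionVars false
set_option linter.style.haveILetI false

namespace Cfsg.Agent.Lib.OddCentTrans.Basic

open scoped Pointwise

universe u

variable {G : Type u} [Group G] [Finite G]

theorem inv_eq_self {t : G} (ht : t * t = 1) : t⁻¹ = t := inv_eq_of_mul_eq_one_right ht

/-- Two involutions with odd product are conjugate by a power of the product. -/
theorem exists_conj_of_odd {t s : G} (ht : t * t = 1) (hs : s * s = 1)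
    (ho : Odd (orderOf (t * s))) : ∃ j : ℕ, s = ((t * s) ^ j)⁻¹ * t * (t * s) ^ j := by
  obtain ⟨i, hi⟩ := ho
  refine ⟨i + 1, ?_⟩
  have h1 : t * (t * s) * t⁻¹ = (t * s)⁻¹ := by
    rw [mul_inv_rev, inv_eq_self ht, inv_eq_self hs, ← mul_assoc t t s, ht, one_mul]
  have h2 : t * (t * s) ^ (i + 1) * t⁻¹ = ((t * s) ^ (i + 1))⁻¹ := by
    rw [← conj_pow, h1, inv_pow]
  have h3 : (t * s) ^ (i + 1) * (t * s) ^ (i + 1) = t * s := by
    rw [← pow_add, show i + 1 + (i + 1) = (2 * i + 1) + 1 by omega, ← hi, pow_succ,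
      pow_orderOf_eq_one, one_mul]
  calc s = t * (t * s) := by rw [← mul_assoc, ht, one_mul]
    _ = t * (t * s) ^ (i + 1) * t⁻¹ * t * (t * s) ^ (i + 1) := by
        conv_lhs => rw [← h3]
        group
    _ = _ := by rw [h2]

theorem orderOf_eq_two {t : G} (ht : t * t = 1) (h1 : t ≠ 1) : orderOf t = 2 :=
  orderOf_eq_prime (by rw [pow_two, ht]) h1

theorem sq_of_orderOf {t : G} (ht : orderOf t = 2) : t * t = 1 := by
  rw [← pow_two, ← ht, pow_orderOf_eq_one]

theorem ne_one_of_orderOf {t : G} (ht : orderOf t = 2) : t ≠ 1 := by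
  rintro rfl
  rw [orderOf_one] at ht
  omega

/-- A fixed point free involutory action inverts. -/
theorem inverts_of_fixedPointFree (R : Subgroup G) {t : G} (ht : t * t = 1)
    (hR : ∀ x ∈ R, t * x * t⁻¹ ∈ R) (hfix : ∀ x ∈ R, t * x * t⁻¹ = x → x = 1) :
    ∀ x ∈ R, t * x * t⁻¹ = x⁻¹ := by
  have hinj : Function.Injective fun x : R => (⟨(x : G)⁻¹ * (t * x * t⁻¹),
      R.mul_mem (R.inv_mem x.2) (hR _ x.2)⟩ : R) := by
    intro a b h
    have h' : (a : G)⁻¹ * (t * a * t⁻¹) = (b : G)⁻¹ * (t * b * t⁻¹) := congrArg Subtype.val h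
    have h'' : t * ((b : G) * (a : G)⁻¹) * t⁻¹ = (b : G) * (a : G)⁻¹ := by
      calc t * ((b : G) * (a : G)⁻¹) * t⁻¹
          = (t * b * t⁻¹) * (t * a * t⁻¹)⁻¹ := by group
        _ = ((b : G) * ((b : G)⁻¹ * (t * b * t⁻¹))) * (t * a * t⁻¹)⁻¹ := by group
        _ = ((b : G) * ((a : G)⁻¹ * (t * a * t⁻¹))) * (t * a * t⁻¹)⁻¹ := by rw [h']
        _ = _ := by group
    exact Subtype.ext (mul_inv_eq_one.mp (hfix _ (R.mul_mem b.2 (R.inv_mem a.2)) h'')).symm
  intro x hx
  obtain ⟨a, ha⟩ := (Finite.injective_iff_surjective.mp hinj) ⟨x, hx⟩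
  have ha' : (a : G)⁻¹ * (t * a * t⁻¹) = x := congrArg Subtype.val ha
  rw [← ha', inv_eq_self ht]
  calc t * ((a : G)⁻¹ * (t * a * t)) * t
      = t * (a : G)⁻¹ * t * a * (t * t) := by group
    _ = ((a : G)⁻¹ * (t⁻¹ * a * t⁻¹))⁻¹ := by rw [ht, mul_one]; group
    _ = _ := by rw [inv_eq_self ht]

/-- The elements inverted by `t` in a subgroup it inverts commute. -/
theorem comm_of_inverts (R : Subgroup G) {t : G} (h : ∀ x ∈ R, t * x * t⁻¹ = x⁻¹) :
    ∀ x ∈ R, ∀ y ∈ R, x * y = y * x := by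
  intro x hx y hy
  have := h _ (R.mul_mem hx hy)
  rw [mul_inv_rev, ← h x hx, ← h y hy,
    show t * (x * y) * t⁻¹ = (t * x * t⁻¹) * (t * y * t⁻¹) by group,
    h x hx, h y hy, ← mul_inv_rev, ← mul_inv_rev, inv_inj] at this
  exact this.symm

/-- An involution normalising a subgroup of odd order fixes one of its Sylow subgroups. -/
theorem exists_invariant_sylow (p : ℕ) [Fact p.Prime] (K : Subgroup G) (hK : Odd (Nat.card K))
    {t : G} (ht : t * t = 1) (htK : ∀ x ∈ K, t * x * t⁻¹ ∈ K) :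
    ∃ R : Subgroup G, R ≤ K ∧ IsPGroup p R ∧ (∀ x ∈ R, t * x * t⁻¹ ∈ R) ∧
      (∀ S : Subgroup G, S ≤ K → IsPGroup p S → Nat.card S ∣ Nat.card R) ∧
      ∀ S : Subgroup G, S ≤ K → IsPGroup p S → (∀ k ∈ K, ∀ s ∈ S, k * s * k⁻¹ ∈ S) → S ≤ R := by
  have hti := inv_eq_self ht
  let φ : MulAut K :=
    { toFun := fun x => ⟨t * x * t⁻¹, htK _ x.2⟩
      invFun := fun x => ⟨t * x * t⁻¹, htK _ x.2⟩
      left_inv := fun x => Subtype.ext <| by
        show t * (t * x * t⁻¹) * t⁻¹ = x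
        rw [hti, show t * (t * (x : G) * t) * t = (t * t) * x * (t * t) by group, ht, one_mul, mul_one]
      right_inv := fun x => Subtype.ext <| by
        show t * (t * x * t⁻¹) * t⁻¹ = x
        rw [hti, show t * (t * (x : G) * t) * t = (t * t) * x * (t * t) by group, ht, one_mul, mul_one]
      map_mul' := fun x y => Subtype.ext <| by
        show t * ((x : G) * y) * t⁻¹ = t * x * t⁻¹ * (t * y * t⁻¹)
        group }
  have hφ : φ * φ = 1 := MulEquiv.ext fun x => φ.left_inv x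
  have hodd : Odd (Nat.card (Sylow p K)) := by
    let P : Sylow p K := default
    exact Odd.of_dvd_nat hK ((Sylow.card_dvd_index P).trans (P : Subgroup K).index_dvd_card)
  have := Fintype.ofFinite (Sylow p K)
  obtain ⟨P, hP⟩ := Equiv.Perm.exists_fixed_point_of_prime (p := 2) (n := 1)
    (σ := (MulAction.toPerm φ : Equiv.Perm (Sylow p K)))
    (by rw [← Nat.card_eq_fintype_card]; exact hodd.not_two_dvd_nat)
    (Equiv.ext fun x => by
      rw [pow_one, pow_two, Equiv.Perm.mul_apply, MulAction.toPerm_apply, MulAction.toPerm_apply,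
        smul_smul, hφ, one_smul]
      rfl)
  rw [MulAction.toPerm_apply] at hP
  refine ⟨(P : Subgroup K).map K.subtype, Subgroup.map_subtype_le _, P.isPGroup'.map _, ?_, ?_, ?_⟩
  · rintro _ ⟨x, hx, rfl⟩
    have : φ • x ∈ ((φ • P : Sylow p K) : Subgroup K) := Subgroup.smul_mem_pointwise_smul x φ _ hx
    rw [hP] at this
    exact ⟨φ • x, this, rfl⟩
  · intro S hSK hS
    rw [Subgroup.card_map_of_injective K.subtype_injective]
    have hS' : IsPGroup p (S.subgroupOf K) := hS.of_equiv (Subgroup.subgroupOfEquivOfLe hSK).symm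
    obtain ⟨Q, hQ⟩ := hS'.exists_le_sylow
    have := Subgroup.card_dvd_of_le hQ
    rw [Nat.card_congr (Subgroup.subgroupOfEquivOfLe hSK).toEquiv, Q.card_eq_multiplicity] at this
    rw [P.card_eq_multiplicity]
    exact this
  · intro S hSK hS hnorm
    have hS' : IsPGroup p (S.subgroupOf K) := hS.of_equiv (Subgroup.subgroupOfEquivOfLe hSK).symm
    haveI : (S.subgroupOf K).Normal := ⟨fun s hs k => by
      rw [Subgroup.mem_subgroupOf] at hs ⊢
      exact hnorm _ k.2 _ hs⟩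
    obtain ⟨Q, hQ⟩ := hS'.exists_le_sylow
    obtain ⟨k, hk⟩ := MulAction.exists_smul_eq K Q P
    intro s hs
    refine ⟨⟨s, hSK hs⟩, ?_, rfl⟩
    have hmem : k⁻¹ * (⟨s, hSK hs⟩ : K) * k ∈ (Q : Subgroup K) := by
      refine hQ ?_
      have := (inferInstance : (S.subgroupOf K).Normal).conj_mem ⟨s, hSK hs⟩
        (Subgroup.mem_subgroupOf.mpr hs) k⁻¹
      rwa [inv_inv] at this
    have := Subgroup.smul_mem_pointwise_smul _ (MulAut.conj k) _ hmem
    have he : MulAut.conj k • (k⁻¹ * (⟨s, hSK hs⟩ : K) * k) = ⟨s, hSK hs⟩ := by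
      rw [MulAut.smul_def, MulAut.conj_apply]
      group
    rw [he] at this
    rw [← hk]
    exact this

/-- A `p`-element that is a product of a `p'`-element and an element of a subgroup normalised by
the former lies in that subgroup. -/
theorem mem_of_mul {p : ℕ} [Fact p.Prime] (K : Subgroup G) {m k : G}
    (hm : ∀ x ∈ K, m * x * m⁻¹ ∈ K) (hk : k ∈ K) (hco : ¬ p ∣ orderOf m) {a : ℕ}
    (hn : (m * k) ^ p ^ a ∈ K) : m * k ∈ K := by
  have hstep : ∀ j : ℕ, ∃ c ∈ K, (m * k) ^ j = c * m ^ j := by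
    intro j
    induction j with
    | zero => exact ⟨1, K.one_mem, by simp⟩
    | succ j ih =>
      obtain ⟨c, hc, hj⟩ := ih
      refine ⟨(m * k * m⁻¹) * (m * c * m⁻¹), K.mul_mem (hm _ hk) (hm _ hc), ?_⟩
      rw [pow_succ', hj, pow_succ']
      group
  obtain ⟨c, hc, hj⟩ := hstep (p ^ a)
  have hmp : m ^ p ^ a ∈ K := by
    rw [hj] at hn
    exact (K.mul_mem_cancel_left hc).mp hn
  refine K.mul_mem ?_ hk
  have hcop : (p ^ a).Coprime (orderOf m) :=
    ((Nat.Prime.coprime_iff_not_dvd Fact.out).mpr hco).pow_left a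
  exact (Subgroup.zpowers_le.mpr hmp) (mem_zpowers_pow_iff.mpr hcop)

end Cfsg.Agent.Lib.OddCentTrans.Basic
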