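import Cfsg.Agent.Lib.OddCentTrans.Regular

/-!
# One involution per point, hence a normal Sylow subgroup
-/

set_option autoImplicit false
set_option linter.unusedSectionVars false
set_option linter.style.haveILetI false

namespace Cfsg.Agent.Lib.OddCentTrans.Contradiction

open Subgroup
open Cfsg.Agent.Lib.OddCentTrans.Basic Cfsg.Agent.Lib.OddCentTrans.Setting
open Cfsg.Agent.Lib.OddCentTrans.Regular

universe u v

variable {G : Type u} [Group G] [Finite G] {Ω : Type v} [MulAction G Ω] [FaithfulSMul G Ω]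
  [Finite Ω] {p : ℕ} [Fact p.Prime] (h : Hyp p G Ω)
include h

/-- A real element of odd order with centraliser of odd order has order of centraliser divisible
by `p`. -/
theorem dvd_centralizer_of_real {u k : G} (hu : orderOf u = 2) (hk : u * k * u⁻¹ = k⁻¹)
    (hodd : Odd (Nat.card (centralizer ({k} : Set G)))) :
    p ∣ Nat.card (centralizer ({k} : Set G)) := by
  classical
  by_contra hpC
  have := Fintype.ofFinite G
  set C := centralizer ({k} : Set G)
  have hu2 := sq_of_orderOf hu
  have hui := inv_eq_self hu2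
  set n := (Nat.card G).factorization p
  obtain ⟨r, hr, hGr⟩ : ∃ r, ¬ p ∣ r ∧ Nat.card G = p ^ n * r :=
    ⟨_, Nat.not_dvd_ordCompl Fact.out Nat.card_pos.ne', (Nat.ordProj_mul_ordCompl_eq_self _ p).symm⟩
  set S := Finset.univ.filter (fun x : G => IsConj u x) with hSdef
  have hScard : S.card = Nat.card {x : G // IsConj u x} := by
    rw [hSdef, Nat.card_eq_fintype_card, Fintype.card_subtype]
  obtain ⟨l, hl⟩ : p ^ n ∣ S.card := by
    refine (Nat.Coprime.pow_left n ((Nat.Prime.coprime_iff_not_dvd Fact.out).mpr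
      (not_dvd_centralizer h.cent hu))).dvd_of_dvd_mul_right ?_
    rw [hScard, Cfsg.Agent.Lib.Characters.Complete.card_conjugates_mul_centralizer, hGr]
    exact dvd_mul_right _ _
  have hdvd := Count.dvd_count hGr hr h.noDefect S
    (fun g x hx => Finset.mem_filter.mpr ⟨Finset.mem_univ _,
      (Finset.mem_filter.mp hx).2.trans (isConj_iff.mpr ⟨g, rfl⟩)⟩)
    (fun χ => ⟨(l : ℂ) * (χ : G → ℂ) u, (isIntegral_natCast l).mul
      (Cfsg.Agent.Lib.Characters.Basic.isIntegral_apply
        (Cfsg.Agent.Lib.Characters.Basic.isCharacter_irr χ) u), by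
      rw [Finset.sum_congr rfl (g := fun _ => (χ : G → ℂ) u) fun x hx =>
        (Cfsg.Agent.Lib.Characters.Basic.classFunction_apply_of_isConj
          (Cfsg.Agent.Lib.Characters.Basic.isClassFunction_irr χ)
          (Finset.mem_filter.mp hx).2).symm, Finset.sum_const, nsmul_eq_mul, hl]
      push_cast
      ring⟩)
    k u (not_dvd_centralizer h.cent hu)
  -- the filtered set is the orbit of `u` under `C`
  let φ : C →* ConjAct G := ConjAct.toConjAct.toMonoidHom.comp C.subtype
  letI : MulAction C G := MulAction.compHom G φ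
  have hsmul : ∀ (c : C) (x : G), c • x = (c : G) * x * (c : G)⁻¹ := fun _ _ => rfl
  have hset : ((S.filter fun z => IsConj (k * z) u : Finset G) : Set G) = MulAction.orbit C u := by
    ext z
    simp only [Finset.coe_filter, hSdef, Finset.mem_filter, Finset.mem_univ, true_and,
      Set.mem_ofPred_eq]
    constructor
    · rintro ⟨hzu, hkz⟩
      have sq : ∀ y, IsConj u y → y * y = 1 := fun y hy => by
        obtain ⟨c, hc⟩ := isConj_iff.mp hy
        rw [← hc]
        calc c * u * c⁻¹ * (c * u * c⁻¹) = c * (u * u) * c⁻¹ := by group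
          _ = 1 := by rw [hu2]; group
      have hz2 := sq z hzu
      have hzk : z * k * z⁻¹ = k⁻¹ := by
        rw [inv_eq_self hz2]
        exact eq_inv_of_mul_eq_one_right (by rw [← sq _ hkz.symm]; group)
      have hmem : u * z ∈ C := by
        rw [mem_centralizer_singleton_iff]
        refine mul_inv_eq_iff_eq_mul.mp ?_
        calc u * z * k * (u * z)⁻¹ = u * (z * k * z⁻¹) * u⁻¹ := by group
          _ = (u * k * u⁻¹)⁻¹ := by rw [hzk]; group
          _ = k := by rw [hk, inv_inv]
      obtain ⟨j, hj⟩ := exists_conj_of_odd hu2 hz2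
        (Odd.of_dvd_nat hodd (Subgroup.orderOf_dvd_natCard _ hmem))
      refine ⟨⟨((u * z) ^ j)⁻¹, C.inv_mem (C.pow_mem hmem j)⟩, ?_⟩
      show ((u * z) ^ j)⁻¹ * u * (((u * z) ^ j)⁻¹)⁻¹ = z
      rw [inv_inv]
      exact hj.symm
    · rintro ⟨c, rfl⟩
      simp only [hsmul]
      have hck : (c : G) * k = k * c := mem_centralizer_singleton_iff.mp c.2
      refine ⟨isConj_iff.mpr ⟨c, rfl⟩, ?_⟩
      set z := (c : G) * u * (c : G)⁻¹
      have hz2 : z * z = 1 := by
        calc z * z = (c : G) * (u * u) * (c : G)⁻¹ := by simp only [z]; group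
          _ = 1 := by rw [hu2]; group
      have hzk : z * k * z⁻¹ = k⁻¹ := by
        have h1 : (c : G)⁻¹ * k * c = k := by rw [mul_assoc, ← hck, inv_mul_cancel_left]
        have h2 : (c : G) * k⁻¹ * (c : G)⁻¹ = k⁻¹ := by
          calc (c : G) * k⁻¹ * (c : G)⁻¹ = ((c : G) * k * (c : G)⁻¹)⁻¹ := by group
            _ = k⁻¹ := by rw [hck, mul_inv_cancel_right]
        calc z * k * z⁻¹ = (c : G) * (u * ((c : G)⁻¹ * k * c) * u⁻¹) * (c : G)⁻¹ := by simp only [z]; group
          _ = k⁻¹ := by rw [h1, hk, h2]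
      have hkz2 : k * z * (k * z) = 1 := by
        calc k * z * (k * z) = k * (z * k * z⁻¹) * (z * z) := by group
          _ = 1 := by rw [hzk, hz2, mul_inv_cancel, one_mul]
      have hmem : u * (k * z) ∈ C := by
        rw [mem_centralizer_singleton_iff]
        refine mul_inv_eq_iff_eq_mul.mp ?_
        calc u * (k * z) * k * (u * (k * z))⁻¹ = u * (k * (z * k * z⁻¹) * k⁻¹) * u⁻¹ := by group
          _ = u * k⁻¹ * u⁻¹ := by rw [hzk]; group
          _ = (u * k * u⁻¹)⁻¹ := by group
          _ = k := by rw [hk, inv_inv]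
      obtain ⟨j, hj⟩ := exists_conj_of_odd hu2 hkz2
        (Odd.of_dvd_nat hodd (Subgroup.orderOf_dvd_natCard _ hmem))
      refine (isConj_iff.mpr ⟨((u * (k * z)) ^ j)⁻¹, ?_⟩).symm
      rw [inv_inv]
      exact hj.symm
  have hdC : (S.filter fun z => IsConj (k * z) u).card ∣ Nat.card C := by
    rw [← Set.ncard_coe_finset, hset, ← MulAction.index_stabilizer]
    exact Subgroup.index_dvd_card _
  exact hpC (hdvd.trans hdC)

/-- A real element fixing two points has centraliser of even order, if it is not trivial. -/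
theorem even_centralizer {u k : G} {a b : Ω} (hab : a ≠ b) (hu : orderOf u = 2)
    (hk : u * k * u⁻¹ = k⁻¹) (ha : k • a = a) (hb : k • b = b) (hk1 : k ≠ 1) :
    2 ∣ Nat.card (centralizer ({k} : Set G)) := by
  by_contra h2
  have hodd : Odd (Nat.card (centralizer ({k} : Set G))) :=
    Nat.not_even_iff_odd.mp fun he => h2 he.two_dvd
  have hu2 := sq_of_orderOf hu
  have hnorm : ∀ (w : G), u * w * u⁻¹ = w⁻¹ → ∀ y ∈ centralizer ({w} : Set G),
      u * y * u⁻¹ ∈ centralizer ({w} : Set G) := by
    intro w hw y hy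
    have hyw : y * w = w * y := mem_centralizer_singleton_iff.mp hy
    have hcomm : u * y * u⁻¹ * w⁻¹ = w⁻¹ * (u * y * u⁻¹) := by
      calc u * y * u⁻¹ * w⁻¹ = u * y * u⁻¹ * (u * w * u⁻¹) := by rw [hw]
        _ = u * (y * w) * u⁻¹ := by group
        _ = u * (w * y) * u⁻¹ := by rw [hyw]
        _ = u * w * u⁻¹ * (u * y * u⁻¹) := by group
        _ = _ := by rw [hw]
    refine mem_centralizer_singleton_iff.mpr ?_
    have := congrArg (fun z => w * z * w) hcomm
    simp only [mul_assoc, inv_mul_cancel, mul_one, mul_inv_cancel_left] at this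
    simpa [mul_assoc] using this.symm
  obtain ⟨R, hRC, hR, hRu, hRcard, -⟩ :=
    exists_invariant_sylow p _ hodd hu2 (hnorm k hk)
  obtain ⟨x, hx⟩ := exists_prime_orderOf_dvd_card' (G := centralizer ({k} : Set G)) p
    (dvd_centralizer_of_real h hu hk hodd)
  have hpR : p ∣ Nat.card R := by
    have h1 := hRcard (zpowers (x : G)) (zpowers_le.mpr x.2)
      (IsPGroup.of_card (n := 1) (by rw [Nat.card_zpowers, Subgroup.orderOf_coe, hx, pow_one]))
    rwa [Nat.card_zpowers, Subgroup.orderOf_coe, hx] at h1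
  obtain ⟨y, hy, hy1⟩ := R.bot_or_exists_ne_one.resolve_left (fun hbot => by
    rw [hbot, Subgroup.card_bot] at hpR
    exact (Fact.out : p.Prime).not_dvd_one hpR)
  have hyi : u * y * u⁻¹ = y⁻¹ := inverts h.cent hu R hR hRu y hy
  set A := centralizer ({y} : Set G)
  have hA : Odd (Nat.card A) := h.cent y hy1 (exists_pow_of_mem hR hy)
  obtain ⟨P₀, hP₀⟩ := hR.exists_le_sylow
  have hP₀A : (P₀ : Subgroup G) ≤ A := fun z hz =>
    mem_centralizer_singleton_iff.mpr (sylow_comm h P₀ z hz y (hP₀ hy))
  obtain ⟨R', hR'A, hR', hR'u, hR'card, -⟩ := exists_invariant_sylow p A hA hu2 (hnorm y hyi)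
  obtain ⟨P, hP⟩ := hR'.exists_le_sylow
  have hR'P : R' = (P : Subgroup G) := by
    refine Subgroup.eq_of_le_of_card_ge hP ?_
    rw [P.card_eq_multiplicity, ← P₀.card_eq_multiplicity]
    exact Nat.le_of_dvd Nat.card_pos (hR'card _ hP₀A P₀.isPGroup')
  subst hR'P
  have hkA : k ∈ A :=
    mem_centralizer_singleton_iff.mpr (mem_centralizer_singleton_iff.mp (hRC hy)).symm
  have hnP := sylow_normal_odd h P A hA hR'A
  have hPi := inverts h.cent hu (P : Subgroup G) P.isPGroup' hR'u
  have hk2 : k * k ∈ (P : Subgroup G) := mem_of_commutes h P fun z hz => by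
    have h1 : u * (k * z * k⁻¹) * u⁻¹ = k⁻¹ * z⁻¹ * k := by
      calc u * (k * z * k⁻¹) * u⁻¹ = u * k * u⁻¹ * (u * z * u⁻¹) * (u * k * u⁻¹)⁻¹ := by group
        _ = _ := by rw [hk, hPi z hz]; group
    rw [hPi _ (hnP k hkA z hz)] at h1
    have h2 : k * z * k⁻¹ = k⁻¹ * z * k := by
      have := congrArg (·⁻¹) h1
      simpa [mul_assoc] using this
    calc k * k * z = k * (k * z * k⁻¹) * k := by group
      _ = k * (k⁻¹ * z * k) * k := by rw [h2]
      _ = z * (k * k) := by group
  have h4 : k * k = 1 := eq_one_of_fixes h P hk2 (a := a) (by rw [← smul_smul, ha, ha])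
  have hd : orderOf k ∣ 2 := orderOf_dvd_of_pow_eq_one (by rw [pow_two, h4])
  exact hk1 (orderOf_eq_one_iff.mp (Nat.eq_one_of_dvd_coprimes
    (Nat.coprime_two_right.mpr (odd_of_fixes h hab ha hb)) dvd_rfl hd))

/-- An involution centralising an element inverted by `u`, not trivial and of odd order, has the
fixed point of `u`. -/
theorem fixed_eq_of_centralizes {u v k : G} (hu : orderOf u = 2) (hv : orderOf v = 2)
    (hk : u * k * u⁻¹ = k⁻¹) (hvk : v * k = k * v) (hko : Odd (orderOf k)) (hk1 : k ≠ 1) {c : Ω}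
    (hc : v • c = c) : u • c = c := by
  have hu2 := sq_of_orderOf hu
  have hv2 := sq_of_orderOf hv
  set o := orderOf (u * v) with ho
  by_cases hodd : Odd o
  · exfalso
    have hmem : u * v * (u * v) ∈ centralizer ({k} : Set G) := by
      refine mem_centralizer_singleton_iff.mpr (mul_inv_eq_iff_eq_mul.mp ?_)
      have h1 : v * k * v⁻¹ = k := by rw [hvk, mul_inv_cancel_right]
      calc u * v * (u * v) * k * (u * v * (u * v))⁻¹
          = u * (v * (u * (v * k * v⁻¹) * u⁻¹) * v⁻¹) * u⁻¹ := by group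
        _ = u * (v * k⁻¹ * v⁻¹) * u⁻¹ := by rw [h1, hk]
        _ = u * (v * k * v⁻¹)⁻¹ * u⁻¹ := by group
        _ = (u * k * u⁻¹)⁻¹ := by rw [h1]; group
        _ = k := by rw [hk, inv_inv]
    obtain ⟨i, hi⟩ := hodd
    have huv : u * v ∈ centralizer ({k} : Set G) := by
      have : u * v = (u * v * (u * v)) ^ (i + 1) := by
        rw [← pow_two, ← pow_mul, show 2 * (i + 1) = (2 * i + 1) + 1 by omega, ← hi, pow_succ, ho,
          pow_orderOf_eq_one, one_mul]
      rw [this]
      exact pow_mem hmem _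
    have huk : u * k * u⁻¹ = k := by
      have h1 := mem_centralizer_singleton_iff.mp huv
      calc u * k * u⁻¹ = u * (v * k) * (u * v)⁻¹ := by rw [hvk]; group
        _ = u * v * k * (u * v)⁻¹ := by group
        _ = k := by rw [h1, mul_inv_cancel_right]
    rw [hk] at huk
    have hd : orderOf k ∣ 2 := orderOf_dvd_of_pow_eq_one (by
      rw [pow_two]
      nth_rewrite 1 [← huk]
      exact inv_mul_cancel k)
    exact hk1 (orderOf_eq_one_iff.mp (Nat.eq_one_of_dvd_coprimes
      (Nat.coprime_two_right.mpr hko) dvd_rfl hd))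
  · rw [Nat.not_odd_iff_even] at hodd
    obtain ⟨m, hm⟩ := hodd.two_dvd
    have hpos : 0 < o := orderOf_pos _
    set z := (u * v) ^ m
    have hz : orderOf z = 2 := by
      rw [orderOf_pow' _ (by omega), ← ho, hm, Nat.gcd_eq_right ⟨2, by ring⟩]
      exact Nat.mul_div_left 2 (by omega)
    have hzi : z⁻¹ = z := inv_eq_self (sq_of_orderOf hz)
    have hinv : ∀ w, w * (u * v) * w⁻¹ = (u * v)⁻¹ → w * z = z * w := fun w hw => by
      have : w * z * w⁻¹ = z⁻¹ := by rw [← conj_pow, hw, inv_pow]
      rw [hzi] at this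
      exact mul_inv_eq_iff_eq_mul.mp this
    have hzu : u * z = z * u := hinv u (by
      calc u * (u * v) * u⁻¹ = u * u * v * u⁻¹ := by group
        _ = (u * v)⁻¹ := by rw [hu2, one_mul, mul_inv_rev, inv_eq_self hv2])
    have hzv : v * z = z * v := hinv v (by
      calc v * (u * v) * v⁻¹ = v * u := by group
        _ = (u * v)⁻¹ := by rw [mul_inv_rev, inv_eq_self hu2, inv_eq_self hv2])
    have hzc : z • c = c := fixed_eq_of_commute h hz hzv.symm hc hv
    exact fixed_eq_of_commute h hu hzu hzc hz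

/-- Swappers of the same pair share their fixed point. -/
theorem swappers {u w : G} {a b c : Ω} (hab : a ≠ b) (hu : orderOf u = 2) (hw : orderOf w = 2)
    (hua : u • a = b) (hwa : w • a = b) (hc : u • c = c) : w • c = c := by
  by_cases huw : u = w
  · rw [← huw, hc]
  have hu2 := sq_of_orderOf hu
  have hw2 := sq_of_orderOf hw
  have hub : u • b = a := by rw [← hua, smul_smul, hu2, one_smul]
  have hwb : w • b = a := by rw [← hwa, smul_smul, hw2, one_smul]
  set k := u * w with hkdef
  have hka : k • a = a := by rw [← smul_smul, hwa, hub]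
  have hkb : k • b = b := by rw [← smul_smul, hwb, hua]
  have hk1 : k ≠ 1 := fun hk => huw (by
    rw [eq_inv_of_mul_eq_one_left hk, inv_eq_self hw2])
  have huk : u * k * u⁻¹ = k⁻¹ := by
    rw [hkdef, mul_inv_rev, inv_eq_self hu2, inv_eq_self hw2, ← mul_assoc u u w, hu2, one_mul]
  have hwk : w * k * w⁻¹ = k⁻¹ := by
    rw [hkdef, mul_inv_rev, inv_eq_self hu2, inv_eq_self hw2]
    simp only [mul_assoc, hw2, mul_one]
  obtain ⟨v, hv⟩ := exists_prime_orderOf_dvd_card' (G := centralizer ({k} : Set G)) 2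
    (even_centralizer h hab hu huk hka hkb hk1)
  rw [← Subgroup.orderOf_coe] at hv
  have hvk : (v : G) * k = k * v := mem_centralizer_singleton_iff.mp v.2
  have hko := odd_of_fixes h hab hka hkb
  obtain ⟨d, hd, -⟩ := existsUnique_fixed h hv
  have h1 := fixed_eq_of_centralizes h hu hv huk hvk hko hk1 hd
  have h2 := fixed_eq_of_centralizes h hw hv hwk hvk hko hk1 hd
  rwa [(existsUnique_fixed h hu).unique hc h1]

open scoped Classical in
/-- Each point is fixed by one involution only. -/
theorem unique_involution {u w : G} {c : Ω} (hu : orderOf u = 2) (hw : orderOf w = 2)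
    (huc : u • c = c) (hwc : w • c = c) : u = w := by
  have := Fintype.ofFinite G
  have := Fintype.ofFinite Ω
  set I := Finset.univ.filter (fun x : G => orderOf x = 2)
  let J : Ω → Finset G := fun a => I.filter (fun x => x • a = a)
  let F : Ω × Ω → Finset G := fun q => I.filter (fun x => x • q.1 = q.2)
  set m := (J c).card
  haveI := h.trans
  have hI : ∀ {x : G}, x ∈ I ↔ orderOf x = 2 := by simp [I]
  have hJ : ∀ a, (J a).card = m := fun a => by
    obtain ⟨g, rfl⟩ := MulAction.exists_smul_eq G c a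
    have hord : ∀ (g x : G), orderOf (g * x * g⁻¹) = orderOf x := fun g x =>
      (MulAut.conj g).orderOf_eq x
    refine Finset.card_bij' (fun x _ => g⁻¹ * x * g) (fun x _ => g * x * g⁻¹) ?_ ?_
      (fun x _ => by group) (fun x _ => by group)
    · intro x hx
      simp only [J, Finset.mem_filter, hI] at hx ⊢
      refine ⟨?_, ?_⟩
      · have := hord g⁻¹ x
        rw [inv_inv] at this
        rw [this, hx.1]
      · rw [← smul_smul, ← smul_smul, hx.2, inv_smul_smul]
    · intro x hx
      simp only [J, Finset.mem_filter, hI] at hx ⊢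
      refine ⟨by rw [hord, hx.1], ?_⟩
      rw [← smul_smul, ← smul_smul, inv_smul_smul, hx.2]
  set q := Fintype.card Ω
  have hIcard : I.card = q * m := by
    have h1 : ∀ x ∈ I, (Finset.univ.filter (fun a : Ω => x • a = a)).card = 1 := fun x hx => by
      obtain ⟨a, ha, huniq⟩ := existsUnique_fixed h (hI.mp hx)
      refine Finset.card_eq_one.mpr ⟨a, ?_⟩
      ext b
      simp only [Finset.mem_filter, Finset.mem_univ, true_and, Finset.mem_singleton]
      exact ⟨huniq b, fun hb => hb ▸ ha⟩
    rw [Finset.card_eq_sum_ones, ← Finset.sum_congr rfl h1]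
    simp_rw [Finset.card_filter]
    rw [Finset.sum_comm]
    simp_rw [← Finset.card_filter]
    show ∑ a, (J a).card = q * m
    simp [hJ, q]
  set D := Finset.univ.filter (fun x : Ω × Ω => x.1 ≠ x.2)
  have hsub : ∀ (a : Ω × Ω), a ∈ D → ∀ x ∈ F a, ∀ d, x • d = d → F a ⊆ J d := by
    intro a ha x hx d hd y hy
    simp only [F, J, Finset.mem_filter, hI] at hx hy ⊢
    exact ⟨hy.1, swappers h (Finset.mem_filter.mp ha).2 hx.1 hy.1 hx.2 hy.2 hd⟩
  have hle : ∀ a ∈ D, (F a).card ≤ m := fun a ha => by
    rcases (F a).eq_empty_or_nonempty with he | ⟨x, hx⟩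
    · simp [he]
    · obtain ⟨d, hd, -⟩ := existsUnique_fixed h (hI.mp (Finset.mem_filter.mp hx).1)
      exact (hJ d) ▸ Finset.card_le_card (hsub a ha x hx d hd)
  have hDcard : D.card = q * (q - 1) := by
    have : D = Finset.univ.offDiag := by ext x; simp [D]
    rw [this, Finset.offDiag_card, Finset.card_univ, Nat.mul_sub, mul_one]
  have hsum : ∑ a ∈ D, (F a).card = ∑ a ∈ D, m := by
    rw [Finset.sum_const, smul_eq_mul, hDcard]
    calc ∑ a ∈ D, (F a).card = ∑ a ∈ D, ∑ x ∈ I, if x • a.1 = a.2 then 1 else 0 := by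
          simp only [F, Finset.card_filter]
      _ = ∑ x ∈ I, (D.filter fun a => x • a.1 = a.2).card := by
          rw [Finset.sum_comm]
          simp only [Finset.card_filter]
      _ = ∑ x ∈ I, (q - 1) := by
          refine Finset.sum_congr rfl fun x hx => ?_
          obtain ⟨d, hd, huniq⟩ := existsUnique_fixed h (hI.mp hx)
          rw [show q - 1 = (Finset.univ.erase d).card by
            rw [Finset.card_erase_of_mem (Finset.mem_univ _), Finset.card_univ]]
          refine Finset.card_bij' (fun a _ => a.1) (fun a _ => (a, x • a)) ?_ ?_ ?_ ?_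
          · intro a ha
            simp only [D, Finset.mem_filter, Finset.mem_univ, true_and] at ha
            exact Finset.mem_erase.mpr
              ⟨fun e => ha.1 (by rw [← ha.2, e, hd]), Finset.mem_univ _⟩
          · intro a ha
            simp only [D, Finset.mem_filter, Finset.mem_univ, true_and]
            exact ⟨fun e => (Finset.mem_erase.mp ha).1 (huniq a e.symm), trivial⟩
          · intro a ha
            exact Prod.ext rfl (Finset.mem_filter.mp ha).2
          · intro a ha
            rfl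
      _ = q * (q - 1) * m := by rw [Finset.sum_const, smul_eq_mul, hIcard]; ring
  have heq := (Finset.sum_eq_sum_iff_of_le hle).mp hsum
  refine eq_of_smul_eq_smul (α := Ω) fun a => ?_
  by_cases hac : a = c
  · rw [hac, huc, hwc]
  have hne : a ≠ u • a := fun e => hac ((existsUnique_fixed h hu).unique e.symm huc)
  have hD : (a, u • a) ∈ D := by simp [D, hne]
  have huF : u ∈ F (a, u • a) := by simp [F, hI, hu]
  have hFJ : F (a, u • a) = J c :=
    Finset.eq_of_subset_of_card_le (hsub _ hD u huF c huc) (by rw [heq _ hD, hJ])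
  have hwJ : w ∈ J c := by simp [J, hI, hw, hwc]
  rw [← hFJ] at hwJ
  exact ((Finset.mem_filter.mp hwJ).2).symm

/-- There is a non-trivial normal `p`-subgroup. -/
theorem pCore_ne_bot : Cfsg.pCore p G ≠ ⊥ := by
  obtain ⟨t, ht⟩ := exists_involution h
  obtain ⟨P, hP⟩ := exists_inverted_sylow h.cent h.noDefect ht
  have ht2 := sq_of_orderOf ht
  have hti := inv_eq_self ht2
  have htx : ∀ x ∈ (P : Subgroup G), orderOf (t * x) = 2 := fun x hx => by
    refine orderOf_eq_two ?_ ?_
    · have := hP x hx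
      rw [hti] at this
      calc t * x * (t * x) = t * x * t * x := by group
        _ = 1 := by rw [this, inv_mul_cancel]
    · intro h1
      have hmem : t ∈ (P : Subgroup G) := by
        rw [eq_inv_of_mul_eq_one_left h1]
        exact inv_mem hx
      obtain ⟨k, hk⟩ := exists_pow_of_mem P.isPGroup' hmem
      have := ((Fact.out : p.Prime).odd_of_ne_two h.ne_two).pow (n := k)
      rw [← hk, ht] at this
      exact absurd this (by decide)
  obtain ⟨c, hc, -⟩ := existsUnique_fixed h ht
  have hall : ∀ s : G, orderOf s = 2 → ∃ x ∈ (P : Subgroup G), s = t * x := by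
    intro s hs
    obtain ⟨d, hd, -⟩ := existsUnique_fixed h hs
    obtain ⟨y, hy, rfl⟩ := sylow_transitive h P c d
    have hy' : y * t * y⁻¹ = t * (y⁻¹ * y⁻¹) := by
      have := hP y hy
      calc y * t * y⁻¹ = t * (t⁻¹ * y * t) * y⁻¹ := by group
        _ = _ := by rw [hti]; rw [hti] at this; rw [this, mul_assoc]
    refine ⟨y⁻¹ * y⁻¹, mul_mem (inv_mem hy) (inv_mem hy), ?_⟩
    have hmem : y⁻¹ * y⁻¹ ∈ (P : Subgroup G) := mul_mem (inv_mem hy) (inv_mem hy)
    refine unique_involution h hs (htx _ hmem) hd ?_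
    rw [← hy', ← smul_smul, ← smul_smul, inv_smul_smul, hc]
  have hn : (P : Subgroup G).Normal := by
    refine ⟨fun x hx g => ?_⟩
    have hord : ∀ s : G, orderOf s = 2 → orderOf (g * s * g⁻¹) = 2 := fun s hs =>
      ((MulAut.conj g).orderOf_eq s).trans hs
    obtain ⟨y, hy, hy'⟩ := hall _ (hord t ht)
    obtain ⟨z, hz, hz'⟩ := hall _ (hord _ (htx x hx))
    have : g * x * g⁻¹ = y⁻¹ * z := by
      calc g * x * g⁻¹ = (g * t * g⁻¹)⁻¹ * (g * (t * x) * g⁻¹) := by group
        _ = y⁻¹ * z := by rw [hy', hz']; group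
    rw [this]
    exact mul_mem (inv_mem hy) hz
  intro hbot
  have hle := Cfsg.Agent.Lib.PSolvable.le_pCore hn P.isPGroup'
  rw [hbot, le_bot_iff] at hle
  have hcard := sylow_card h P
  obtain ⟨r, hr1, hr⟩ := h.card
  rw [hle, Subgroup.card_bot, hr] at hcard
  have : 1 < p ^ r := Nat.one_lt_pow (by omega) (Fact.out : p.Prime).one_lt
  omega

end Cfsg.Agent.Lib.OddCentTrans.Contradiction
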