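import Cfsg.Agent.Lib.Characters.DefectZero
import Cfsg.Agent.Lib.Characters.Degree
import Cfsg.Agent.Lib.Characters.Complete

/-!
# Divisibility of class-sum coefficients without characters of `p`-defect zero

If no irreducible character has `p`-defect zero and `S` is a conjugation invariant set on which
all characters sum to a multiple of `|G|_p`, then for `g` with centraliser of order prime to `p`
the number of `z ∈ S` with `t * z` conjugate to `g` is a multiple of `p`.
-/

set_option autoImplicit false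
set_option linter.unusedSectionVars false
set_option linter.style.haveILetI false

namespace Cfsg.Agent.Lib.OddCentTrans.Count

open scoped ComplexConjugate
open Cfsg.Agent.Lib.Induced.Basic Cfsg.Agent.Lib.Characters
open Cfsg.Agent.Lib.Characters.Basic Cfsg.Agent.Lib.Characters.Complete

universe u

variable {G : Type u} [Group G] [Finite G]

/-- A conjugation invariant sum acts as a scalar. -/
theorem sum_mul_apply (S : Finset G) (hS : ∀ g x : G, x ∈ S → g * x * g⁻¹ ∈ S)
    (χ : Cfsg.IrrCharacter G) (t : G) :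
    ∑ z ∈ S, (χ : G → ℂ) (t * z) =
      (∑ z ∈ S, (χ : G → ℂ) z) / (χ : G → ℂ) 1 * (χ : G → ℂ) t := by
  classical
  have := Fintype.ofFinite G
  obtain ⟨d, ρ, hρ, hc⟩ := exists_rep χ
  let θ : G → ℂ := fun x => if x⁻¹ ∈ S then 1 else 0
  have hθ : Cfsg.IsClassFunction G θ := fun x c => by
    simp only [θ]
    refine if_congr ⟨fun h => ?_, fun h => ?_⟩ rfl rfl
    · have := hS c⁻¹ _ h
      simpa [mul_assoc] using this
    · have := hS c _ h
      simpa [mul_assoc] using this
  obtain ⟨c, hc1, hc2⟩ := avg_eq_scalar hθ ρ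
  have havg : avg θ ρ = ∑ z ∈ S, ρ z := by
    rw [avg, ← Finset.sum_filter_add_sum_filter_not Finset.univ (fun x : G => x⁻¹ ∈ S),
      Finset.sum_eq_zero (s := Finset.univ.filter fun x : G => ¬ x⁻¹ ∈ S)
        (fun x hx => by simp [θ, (Finset.mem_filter.mp hx).2]), add_zero]
    refine Finset.sum_nbij' (fun x => x⁻¹) (fun x => x⁻¹) (fun x hx => (Finset.mem_filter.mp hx).2)
      (fun x hx => Finset.mem_filter.mpr ⟨Finset.mem_univ _, by simpa using hx⟩)
      (fun x _ => inv_inv x) (fun x _ => inv_inv x) fun x hx => ?_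
    simp [θ, (Finset.mem_filter.mp hx).2]
  have h1 : ∑ z ∈ S, (χ : G → ℂ) z = c * (χ : G → ℂ) 1 := by
    have htr := congrArg (LinearMap.trace ℂ (Fin d → ℂ)) (havg.symm.trans hc1)
    rw [map_sum, map_smul, LinearMap.trace_one, smul_eq_mul] at htr
    rw [← hc, Representation.char_one]
    exact htr
  have h2 : ∑ z ∈ S, (χ : G → ℂ) (t * z) = c * (χ : G → ℂ) t := by
    have hmul : ∑ z ∈ S, ρ (t * z) = c • ρ t := by
      simp only [map_mul]
      rw [← Finset.mul_sum, ← havg, hc1, mul_smul_comm, mul_one]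
    have htr := congrArg (LinearMap.trace ℂ (Fin d → ℂ)) hmul
    rw [map_sum, map_smul, smul_eq_mul] at htr
    rw [← hc]
    exact htr
  rw [h1, h2, mul_div_assoc, div_self (apply_one_ne_zero χ), mul_one]

variable {p n r : ℕ} [Fact p.Prime]

open scoped Classical in
/-- The sum of a character over the elements of `p`-power order is a multiple of `|G|_p`
(Frobenius). -/
theorem sum_pElements [Fintype G] (hG : Nat.card G = p ^ n * r) (hr : ¬ p ∣ r)
    (χ : Cfsg.IrrCharacter G) :
    ∃ z : ℤ, ∑ x ∈ Finset.univ.filter (fun x : G => ∃ k : ℕ, orderOf x = p ^ k),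
      (χ : G → ℂ) x = (p : ℂ) ^ n * z := by
  let f : G → ℂ := fun x => if ∃ k : ℕ, orderOf x = p ^ k then (r : ℂ) else 0
  have hf : Cfsg.IsClassFunction G f := fun x c => by
    have : orderOf (c * x * c⁻¹) = orderOf x := (MulAut.conj c).orderOf_eq x
    simp only [f, this]
  have hgen : Cfsg.IsGeneralizedCharacter G f := by
    refine Cfsg.Agent.S0164.result _ hf fun E q hq hE => ?_
    haveI := Cfsg.Agent.Lib.Brauer.Monomial.isNilpotent_of_elementary hq hE
    have := Fintype.ofFinite E
    refine Generalized.of_classInner_int (fun g h => hf (g : G) (h : G)) fun ψ => ?_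
    let P : Sylow p E := default
    obtain ⟨Q, hcard, hmem, -⟩ := DefectZero.exists_hall P
    have := Fintype.ofFinite (P : Subgroup E)
    have hPn : (P : Subgroup E).Normal :=
      Sylow.normal_of_normalizerCondition Group.normalizerCondition_of_isNilpotent P
    have hPmem : ∀ x : E, x ∈ (P : Subgroup E) ↔ ∃ k : ℕ, orderOf (x : G) = p ^ k := by
      intro x
      rw [Subgroup.orderOf_coe]
      constructor
      · intro hx
        obtain ⟨a, ha⟩ := IsPGroup.iff_card.mp P.isPGroup'
        obtain ⟨k, -, hk⟩ := (Nat.dvd_prime_pow Fact.out).mp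
          (ha ▸ Subgroup.orderOf_dvd_natCard _ hx : orderOf x ∣ p ^ a)
        exact ⟨k, hk⟩
      · rintro ⟨k, hk⟩
        have hxp : IsPGroup p (Subgroup.zpowers x) :=
          IsPGroup.of_card (n := k) (by rw [Nat.card_zpowers, hk])
        obtain ⟨P', hP'⟩ := hxp.exists_le_sylow
        haveI : Unique (Sylow p E) := Sylow.unique_of_normal P hPn
        rw [Subsingleton.elim P P']
        exact hP' (Subgroup.mem_zpowers x)
    obtain ⟨m, hm⟩ := exists_classInner_nat (isCharacter_one (G := (P : Subgroup E)))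
      (isCharacter_comp (P : Subgroup E).subtype (isCharacter_irr ψ))
    obtain ⟨s, hs⟩ : Nat.card Q ∣ r := by
      have hQp : ¬ p ∣ Nat.card Q := fun h => by
        obtain ⟨x, hx⟩ := exists_prime_orderOf_dvd_card' (G := Q) p h
        have := (hmem (x : E)).mp x.2
        rw [Subgroup.orderOf_coe, hx, Nat.coprime_self] at this
        exact (Fact.out : p.Prime).ne_one this
      have hdvd : Nat.card Q ∣ p ^ n * r :=
        hG ▸ (Subgroup.card_subgroup_dvd_card Q).trans (Subgroup.card_subgroup_dvd_card E)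
      exact (((Nat.Prime.coprime_iff_not_dvd Fact.out).mpr hQp).pow_left n).symm.dvd_of_dvd_mul_left
        hdvd
    refine ⟨(s * m : ℕ), ?_⟩
    have hP0 : (Nat.card (P : Subgroup E) : ℂ) ≠ 0 := natCard_ne_zero
    have hsum : ∑ x : E, f x * conj ((ψ : E → ℂ) x) =
        (r : ℂ) * ((Nat.card (P : Subgroup E) : ℂ) * m) := by
      rw [← hm, Cfsg.classInner, ← mul_assoc (Nat.card (P : Subgroup E) : ℂ),
        mul_inv_cancel₀ hP0, one_mul, Finset.mul_sum,
        Finset.sum_congr rfl (g := fun x : (P : Subgroup E) => (r : ℂ) * conj ((ψ : E → ℂ) x))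
          (fun x _ => by simp),
        ← Finset.sum_subtype (Finset.univ.filter (fun x : E => x ∈ (P : Subgroup E))) (by simp)
          (fun x : E => (r : ℂ) * conj ((ψ : E → ℂ) x)), Finset.sum_filter]
      refine Finset.sum_congr rfl fun x _ => ?_
      simp only [f, ← hPmem x]
      by_cases hx : x ∈ (P : Subgroup E) <;> simp [hx]
    rw [Cfsg.classInner, hsum, ← hcard, hs]
    have hQ0 : (Nat.card Q : ℂ) ≠ 0 := natCard_ne_zero
    push_cast
    field_simp
  obtain ⟨z, hz⟩ := Generalized.exists_classInner_int hgen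
    (Generalized.of_isCharacter (isCharacter_irr χ))
  have hr0 : (r : ℂ) ≠ 0 := Nat.cast_ne_zero.mpr fun h => hr (h ▸ dvd_zero p)
  refine ⟨z, ?_⟩
  have hc : ∑ x ∈ Finset.univ.filter (fun x : G => ∃ k : ℕ, orderOf x = p ^ k),
      conj ((χ : G → ℂ) x) = (p : ℂ) ^ n * z := by
    apply mul_left_cancel₀ hr0
    rw [Finset.mul_sum, Finset.sum_filter, ← hz, Cfsg.classInner, ← mul_assoc, ← mul_assoc,
      show (r : ℂ) * (p : ℂ) ^ n = (Nat.card G : ℂ) by rw [hG]; push_cast; ring,
      mul_inv_cancel₀ natCard_ne_zero, one_mul]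
    refine Finset.sum_congr rfl fun x _ => ?_
    simp only [f]
    split_ifs <;> simp
  have := congrArg conj hc
  simpa [map_sum, map_mul] using this

open scoped Classical in
theorem dvd_count [Fintype G] (hG : Nat.card G = p ^ n * r) (hr : ¬ p ∣ r)
    (hnd : ∀ (χ : Cfsg.IrrCharacter G) (d : ℕ), (χ : G → ℂ) 1 = d → ¬ p ^ n ∣ d)
    (S : Finset G) (hS : ∀ g x : G, x ∈ S → g * x * g⁻¹ ∈ S)
    (hint : ∀ χ : Cfsg.IrrCharacter G, ∃ a : ℂ, IsIntegral ℤ a ∧
      ∑ z ∈ S, (χ : G → ℂ) z = (p : ℂ) ^ n * a)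
    (t g : G) (hg : ¬ p ∣ Nat.card (Subgroup.centralizer ({g} : Set G))) :
    p ∣ (S.filter fun z => IsConj (t * z) g).card := by
  have := Fintype.ofFinite (Cfsg.IrrCharacter G)
  set D := (S.filter fun z => IsConj (t * z) g).card with hD
  set C := Nat.card (Subgroup.centralizer ({g} : Set G)) with hC
  have key : ((D * C : ℕ) : ℂ) = ∑ χ : Cfsg.IrrCharacter G,
      (∑ z ∈ S, (χ : G → ℂ) z) / (χ : G → ℂ) 1 * (χ : G → ℂ) t * conj ((χ : G → ℂ) g) := by
    have : ∀ χ : Cfsg.IrrCharacter G,
        (∑ z ∈ S, (χ : G → ℂ) z) / (χ : G → ℂ) 1 * (χ : G → ℂ) t * conj ((χ : G → ℂ) g) =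
          ∑ z ∈ S, (χ : G → ℂ) (t * z) * conj ((χ : G → ℂ) g) := fun χ => by
      rw [← Finset.sum_mul, sum_mul_apply S hS χ t]
    simp_rw [this]
    rw [Finset.sum_comm]
    simp_rw [sum_irr_mul_conj]
    have hcc : ∀ z ∈ S, (if IsConj (t * z) g then
        (Nat.card (Subgroup.centralizer ({t * z} : Set G)) : ℂ) else 0) =
        if IsConj (t * z) g then (C : ℂ) else 0 := fun z _ => by
      split_ifs with h
      · have e1 := sum_irr_mul_conj (t * z) (t * z)
        have e2 := sum_irr_mul_conj g g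
        rw [if_pos (IsConj.refl _)] at e1 e2
        rw [hC, ← e1, ← e2]
        exact Finset.sum_congr rfl fun χ _ => by
          rw [classFunction_apply_of_isConj (isClassFunction_irr χ) h]
      · rfl
    refine Eq.trans ?_ (Finset.sum_congr rfl fun z hz => by convert (hcc z hz).symm)
    rw [← Finset.sum_filter, Finset.sum_const, nsmul_eq_mul, hD]
    push_cast
    ring
  have hp : p.Prime := Fact.out
  have hp0 : (p : ℂ) ≠ 0 := Nat.cast_ne_zero.mpr hp.ne_zero
  have hint' : IsIntegral ℤ (((r * (D * C) : ℕ) : ℂ) / p) := by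
    rw [Nat.cast_mul, key, Finset.mul_sum, Finset.sum_div]
    refine IsIntegral.sum _ fun χ _ => ?_
    obtain ⟨a, ha, hsum⟩ := hint χ
    obtain ⟨d, hd0, hdvd, hd⟩ := Degree.exists_degree_dvd χ
    obtain ⟨e, he⟩ := hdvd
    obtain ⟨e', rfl⟩ : p ∣ e := by
      by_contra hpe
      refine hnd χ d hd (Nat.Coprime.dvd_of_dvd_mul_right
        (((Nat.Prime.coprime_iff_not_dvd hp).mpr hpe).pow_left n) ?_)
      exact ⟨r, by rw [← he, hG]⟩
    have hpn : (p : ℂ) ^ n * r = (d : ℂ) * (p * e') := by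
      have h1 := congrArg (fun x : ℕ => (x : ℂ)) (hG.symm.trans he)
      push_cast at h1
      exact h1
    have hd' : (d : ℂ) ≠ 0 := Nat.cast_ne_zero.mpr hd0.ne'
    have hval : (r : ℂ) * ((∑ z ∈ S, (χ : G → ℂ) z) / (χ : G → ℂ) 1 * (χ : G → ℂ) t *
        conj ((χ : G → ℂ) g)) / p = (e' : ℂ) * a * (χ : G → ℂ) t * conj ((χ : G → ℂ) g) := by
      rw [hsum, hd]
      field_simp
      linear_combination (a * (χ : G → ℂ) t * conj ((χ : G → ℂ) g)) * hpn
    rw [hval]
    exact (((isIntegral_natCast e').mul ha).mul (isIntegral_apply (isCharacter_irr χ) t)).mul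
      (Degree.isIntegral_conj (isIntegral_apply (isCharacter_irr χ) g))
  have hq : IsIntegral ℤ (((r * (D * C) : ℕ) : ℚ) / p) := by
    refine (isIntegral_algHom_iff ((algebraMap ℚ ℂ).toIntAlgHom)
      (algebraMap ℚ ℂ).injective).mp ?_
    simpa using hint'
  obtain ⟨z, hz⟩ := IsIntegrallyClosed.isIntegral_iff.mp hq
  have hdvd : p ∣ r * (D * C) := by
    rw [eq_intCast, eq_div_iff (Nat.cast_ne_zero.mpr hp.ne_zero)] at hz
    exact Int.natCast_dvd_natCast.mp ⟨z, by rw [mul_comm (p : ℤ)]; exact_mod_cast hz.symm⟩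
  exact ((hp.dvd_mul.mp ((hp.dvd_mul.mp hdvd).resolve_left hr))).resolve_right hg

end Cfsg.Agent.Lib.OddCentTrans.Count
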