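import Cfsg.Agent.Lib.OddCentTrans.Setting
import Cfsg.Agent.Lib.Clifford.Basic
import Cfsg.Agent.Lib.Characters.Linear
import Cfsg.Agent.Lib.Induced.Character

/-!
# A normal `p`-subgroup: `p`-solvability and a character of 2-defect zero
-/

set_option autoImplicit false
set_option linter.unusedSectionVars false
set_option linter.style.haveILetI false

namespace Cfsg.Agent.Lib.OddCentTrans.Normal

open Subgroup
open Cfsg.Agent.Lib.OddCentTrans.Basic Cfsg.Agent.Lib.OddCentTrans.Setting
open Cfsg.Agent.Lib.Characters Cfsg.Agent.Lib.Characters.Basic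
open Cfsg.Agent.Lib.Clifford.Basic

universe u

variable {G : Type u} [Group G] [Finite G] {p : ℕ} [Fact p.Prime] (hC : OddCent p G)
  (hp2 : p ≠ 2) (V : Subgroup G) [V.Normal] (hV : IsPGroup p V) (hV1 : V ≠ ⊥)
include hC hp2 hV hV1

theorem inverted {t : G} (ht : orderOf t = 2) : ∀ x ∈ V, t * x * t⁻¹ = x⁻¹ :=
  inverts hC ht V hV fun x hx => (inferInstance : V.Normal).conj_mem x hx t

theorem isPSolvable (h2 : 2 ∣ Nat.card G) : Cfsg.IsPSolvable p G := by
  obtain ⟨t, ht⟩ := exists_prime_orderOf_dvd_card' (G := G) 2 h2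
  set K := centralizer (V : Set G)
  haveI : K.Normal := Subgroup.normal_centralizer
  haveI := Cfsg.Agent.Lib.OddOrder.FeitThompson.isSolvable_of_odd_card
    (odd_centralizer_subgroup hC V hV hV1)
  refine Cfsg.Agent.Lib.PSolvable.isPSolvable_of_extension K
    Cfsg.Agent.Lib.PSolvable.isPSolvable_of_isSolvable
    (Cfsg.Agent.Lib.PSolvable.isPSolvable_of_coprime ?_)
  rw [Nat.coprime_comm, Nat.Prime.coprime_iff_not_dvd Fact.out]
  intro hdvd
  obtain ⟨x, hx⟩ := exists_prime_orderOf_dvd_card' (G := G ⧸ K) p hdvd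
  obtain ⟨g, rfl⟩ := QuotientGroup.mk'_surjective K x
  have hgp : g ^ p ∈ K := by
    rw [← QuotientGroup.eq_one_iff, QuotientGroup.mk_pow]
    have h := pow_orderOf_eq_one (QuotientGroup.mk' K g)
    rw [hx] at h
    exact h
  have hg : g ∈ K := mem_centralizer_of_pow hC ht V hV hV1 (inverted hC hp2 V hV hV1 ht)
    (fun q hq => (inferInstance : V.Normal).conj_mem q hq g) (a := 1) (by rwa [pow_one])
  have : QuotientGroup.mk' K g = 1 := (QuotientGroup.eq_one_iff g).mpr hg
  rw [this, orderOf_one] at hx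
  exact (Fact.out : p.Prime).ne_one hx.symm

theorem exists_defectZero_two (h2 : 2 ∣ Nat.card G) :
    ∃ χ : Cfsg.IrrCharacter G,
      (Cfsg.charDegree (χ : G → ℂ)).factorization 2 = (Nat.card G).factorization 2 := by
  classical
  obtain ⟨t, ht⟩ := exists_prime_orderOf_dvd_card' (G := G) 2 h2
  have hcommV : ∀ a b : V, a * b = b * a := fun a b =>
    Subtype.ext (comm_of_inverts V (inverted hC hp2 V hV hV1 ht) a a.2 b b.2)
  haveI : Nontrivial V := (Subgroup.nontrivial_iff_ne_bot V).mpr hV1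
  obtain ⟨lam, hlam⟩ : ∃ lam : Cfsg.IrrCharacter V, lam ≠ oneChar V := by
    by_contra hcon
    push Not at hcon
    haveI : Subsingleton (Cfsg.IrrCharacter V) := ⟨fun a b => by rw [hcon a, hcon b]⟩
    obtain ⟨v, hv⟩ := exists_ne (1 : V)
    refine hv (Complete.eq_one_of_forall_irr fun χ => ?_)
    rw [hcon χ, oneChar_apply, oneChar_apply]
  have h1 : (lam : V → ℂ) 1 = 1 := Linear.degree_eq_one_of_comm hcommV lam
  -- no involution fixes `lam`
  have hfix : ∀ s : G, orderOf s = 2 → conjC V s (lam : V → ℂ) ≠ (lam : V → ℂ) := by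
    intro s hs he
    refine hlam (Subtype.ext (funext fun v => ?_))
    rw [oneChar_apply]
    obtain ⟨j, hj⟩ := exists_pow_of_mem hV v.2
    have he' := congrFun he v
    have hsv : (⟨s * v * s⁻¹, (inferInstance : V.Normal).conj_mem (v : G) v.2 s⟩ : V) = v⁻¹ :=
      Subtype.ext (inverted hC hp2 V hV hV1 hs v v.2)
    rw [conjC_apply, hsv, ← Linear.degOneHom_apply (isCharacter_irr lam) h1 v⁻¹,
      ← Linear.degOneHom_apply (isCharacter_irr lam) h1 v, map_inv] at he'
    rw [← Linear.degOneHom_apply (isCharacter_irr lam) h1 v]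
    set μ := Linear.degOneHom (isCharacter_irr lam) h1 v with hμ
    have hinv : μ⁻¹ = μ := Units.ext he'
    have h2' : orderOf μ ∣ 2 := orderOf_dvd_of_pow_eq_one (by
      rw [pow_two]
      nth_rewrite 1 [← hinv]
      exact inv_mul_cancel μ)
    have hpj : orderOf μ ∣ p ^ j := orderOf_dvd_of_pow_eq_one (by
      rw [hμ, ← map_pow, show v ^ p ^ j = 1 from Subtype.ext (by
        rw [SubgroupClass.coe_pow, ← hj, pow_orderOf_eq_one, OneMemClass.coe_one]), map_one])
    have hcop : Nat.Coprime 2 (p ^ j) :=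
      Nat.coprime_two_left.mpr (((Fact.out : p.Prime).odd_of_ne_two hp2).pow)
    rw [orderOf_eq_one_iff.mp (Nat.eq_one_of_dvd_coprimes hcop h2' hpj), Units.val_one]
  have hodd : ¬ 2 ∣ Nat.card (inertia V (lam : V → ℂ)) := fun hd => by
    obtain ⟨s, hs⟩ := exists_prime_orderOf_dvd_card' (G := inertia V (lam : V → ℂ)) 2 hd
    rw [← Subgroup.orderOf_coe] at hs
    exact hfix s hs s.2
  have := Fintype.ofFinite G
  have := Fintype.ofFinite V
  obtain ⟨χ, hχ⟩ : ∃ χ : Cfsg.IrrCharacter G,
      Cfsg.classInner (fun a : V => (χ : G → ℂ) a) lam ≠ 0 := by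
    obtain ⟨χ, hχ⟩ := exists_constituent
      (Cfsg.Agent.Lib.Induced.Character.isCharacter_indFun V (isCharacter_irr lam)) (fun h => by
        have := congrFun h 1
        rw [Cfsg.Agent.Lib.Induced.Basic.indFun_one] at this
        exact mul_ne_zero (Nat.cast_ne_zero.2 Subgroup.index_ne_zero_of_finite)
          (apply_one_ne_zero lam) this)
    refine ⟨χ, classInner_ne_zero_symm ?_⟩
    rwa [Cfsg.Agent.Lib.Induced.Basic.frobenius_reciprocity V _ (isClassFunction_irr χ)] at hχ
  refine ⟨χ, ?_⟩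
  obtain ⟨e, he⟩ := exists_classInner_nat (isCharacter_comp V.subtype (isCharacter_irr χ))
    (isCharacter_irr lam)
  have he' : Cfsg.classInner (fun a : V => (χ : G → ℂ) a) lam = e := he
  have hdeg := clifford_degree V χ.2 lam hχ
  rw [he', h1, mul_one, ← Nat.cast_mul] at hdeg
  have hcd : Cfsg.charDegree (χ : G → ℂ) = e * (inertia V (lam : V → ℂ)).index := by
    rw [Cfsg.charDegree, hdeg, Complex.natCast_re, Nat.floor_natCast]
  obtain ⟨d, -, hd, hd'⟩ := Degree.exists_degree_dvd χ
  have hde : d = e * (inertia V (lam : V → ℂ)).index := by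
    exact_mod_cast hd'.symm.trans hdeg
  rw [hde] at hd
  have he0 : e ≠ 0 := fun h => hχ (by rw [he', h, Nat.cast_zero])
  have hi0 : (inertia V (lam : V → ℂ)).index ≠ 0 := Subgroup.index_ne_zero_of_finite
  refine le_antisymm ?_ ?_
  · exact (Nat.factorization_le_iff_dvd (by rw [hcd]; exact mul_ne_zero he0 hi0)
      Nat.card_pos.ne').mpr (by rwa [hcd]) 2
  · rw [hcd, ← Subgroup.card_mul_index (inertia V (lam : V → ℂ)),
      Nat.factorization_mul Nat.card_pos.ne' hi0, Nat.factorization_mul he0 hi0,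
      Finsupp.add_apply, Finsupp.add_apply, Nat.factorization_eq_zero_of_not_dvd hodd]
    omega

end Cfsg.Agent.Lib.OddCentTrans.Normal
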