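import Cfsg.Agent.Lib.OddCentTrans.Setting

/-!
# Regular Sylow subgroup and shared fixed points of swappers
-/

set_option autoImplicit false
set_option linter.unusedSectionVars false
set_option linter.style.haveILetI false

namespace Cfsg.Agent.Lib.OddCentTrans.Regular

open Subgroup
open Cfsg.Agent.Lib.OddCentTrans.Basic Cfsg.Agent.Lib.OddCentTrans.Setting

universe u v

variable {G : Type u} [Group G] [Finite G] {Ω : Type v} [MulAction G Ω] [FaithfulSMul G Ω]
  [Finite Ω] {p : ℕ} [Fact p.Prime]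

/-- The hypotheses of the contradiction. -/
structure Hyp (p : ℕ) (G : Type u) (Ω : Type v) [Group G] [MulAction G Ω] : Prop where
  trans : MulAction.IsPretransitive G Ω
  ne_two : p ≠ 2
  card : ∃ r : ℕ, 1 ≤ r ∧ Nat.card Ω = p ^ r
  cent : OddCent p G
  noDefect : NoDefectZero p G
  even : 2 ∣ Nat.card G

section
variable (h : Hyp p G Ω)
include h

theorem exists_involution : ∃ t : G, orderOf t = 2 :=
  exists_prime_orderOf_dvd_card' 2 h.even

theorem odd_card : Odd (Nat.card Ω) := by
  obtain ⟨r, -, hr⟩ := h.card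
  rw [hr]
  exact ((Fact.out : p.Prime).odd_of_ne_two h.ne_two).pow

theorem nonempty : Nonempty Ω :=
  (Nat.card_pos_iff.mp (odd_card h).pos).1

theorem sylow_comm (P : Sylow p G) : ∀ x ∈ (P : Subgroup G), ∀ y ∈ (P : Subgroup G),
    x * y = y * x := by
  obtain ⟨t, ht⟩ := exists_involution h
  obtain ⟨P₀, hP₀⟩ := exists_inverted_sylow h.cent h.noDefect ht
  obtain ⟨g, hg⟩ := MulAction.exists_smul_eq G P₀ P
  intro x hx y hy
  have hmem : ∀ z ∈ (P : Subgroup G), g⁻¹ * z * g ∈ (P₀ : Subgroup G) := fun z hz => by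
    rw [← hg] at hz
    have hz' : (MulAut.conj g)⁻¹ • z ∈ (P₀ : Subgroup G) :=
      Subgroup.mem_pointwise_smul_iff_inv_smul_mem.mp hz
    simpa [MulAut.smul_def, mul_assoc] using hz'
  have := comm_of_inverts _ hP₀ _ (hmem x hx) _ (hmem y hy)
  calc x * y = g * (g⁻¹ * x * g * (g⁻¹ * y * g)) * g⁻¹ := by group
    _ = g * (g⁻¹ * y * g * (g⁻¹ * x * g)) * g⁻¹ := by rw [this]
    _ = y * x := by group

theorem sylow_transitive (P : Sylow p G) (a b : Ω) : ∃ x ∈ (P : Subgroup G), x • a = b := by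
  obtain ⟨r, -, hr⟩ := h.card
  have hp : p.Prime := Fact.out
  haveI := h.trans
  have hG : (MulAction.stabilizer G a).index = p ^ r := by
    rw [MulAction.index_stabilizer_of_transitive, hr]
  obtain ⟨n, hn⟩ := IsPGroup.iff_card.mp P.isPGroup'
  obtain ⟨b', hb'⟩ := IsPGroup.iff_card.mp
    (P.isPGroup'.to_subgroup (MulAction.stabilizer (P : Subgroup G) a))
  have hle : (MulAction.stabilizer (P : Subgroup G) a).map (P : Subgroup G).subtype ≤
      MulAction.stabilizer G a := by
    rintro _ ⟨y, hy, rfl⟩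
    exact hy
  have hd := Subgroup.card_dvd_of_le hle
  rw [Subgroup.card_map_of_injective (P : Subgroup G).subtype_injective, hb'] at hd
  have hdG : p ^ (b' + r) ∣ Nat.card G := by
    rw [pow_add, ← Subgroup.card_mul_index (MulAction.stabilizer G a), hG]
    exact mul_dvd_mul_right hd _
  have hbr : b' + r ≤ n := by
    have := (hp.pow_dvd_iff_le_factorization Nat.card_pos.ne').mp hdG
    have e : Nat.card (P : Subgroup G) = p ^ (Nat.card G).factorization p := P.card_eq_multiplicity
    rw [hn] at e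
    rwa [← Nat.pow_right_injective hp.two_le e] at this
  have horb : Nat.card Ω ≤ (MulAction.orbit (P : Subgroup G) a).ncard := by
    rw [← MulAction.index_stabilizer, hr]
    have := Subgroup.card_mul_index (MulAction.stabilizer (P : Subgroup G) a)
    rw [hn, hb'] at this
    have h2 : (MulAction.stabilizer (P : Subgroup G) a).index = p ^ (n - b') := by
      refine Nat.eq_of_mul_eq_mul_left (pow_pos hp.pos b') ?_
      rw [this, ← pow_add]
      congr 1
      omega
    rw [h2]
    exact Nat.pow_le_pow_right hp.pos (by omega)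
  have huniv : MulAction.orbit (P : Subgroup G) a = Set.univ :=
    Set.eq_of_subset_of_ncard_le (Set.subset_univ _) (by rw [Set.ncard_univ]; exact horb)
  obtain ⟨x, hx⟩ : b ∈ MulAction.orbit (P : Subgroup G) a := huniv ▸ Set.mem_univ b
  exact ⟨x, x.2, hx⟩

theorem eq_one_of_fixes (P : Sylow p G) {x : G} (hx : x ∈ (P : Subgroup G)) {a : Ω}
    (ha : x • a = a) : x = 1 := by
  refine eq_of_smul_eq_smul (α := Ω) fun b => ?_
  obtain ⟨y, hy, rfl⟩ := sylow_transitive h P a b
  rw [one_smul, smul_smul, sylow_comm h P x hx y hy, ← smul_smul, ha]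

theorem mem_of_commutes (P : Sylow p G) {g : G}
    (hg : ∀ y ∈ (P : Subgroup G), g * y = y * g) : g ∈ (P : Subgroup G) := by
  obtain ⟨a⟩ := nonempty h
  obtain ⟨x, hx, hxa⟩ := sylow_transitive h P a (g • a)
  have : g = x := eq_of_smul_eq_smul (α := Ω) fun b => by
    obtain ⟨y, hy, rfl⟩ := sylow_transitive h P a b
    rw [smul_smul, hg y hy, ← smul_smul, ← hxa, smul_smul, smul_smul, sylow_comm h P y hy x hx]
  exact this ▸ hx

theorem sylow_card (P : Sylow p G) : Nat.card (P : Subgroup G) = Nat.card Ω := by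
  obtain ⟨a⟩ := nonempty h
  refine Nat.card_eq_of_bijective (fun x : (P : Subgroup G) => (x : G) • a)
    ⟨fun x y hxy => ?_, fun b => ?_⟩
  · refine Subtype.ext (mul_inv_eq_one.mp (eq_one_of_fixes h P (a := a)
      ((P : Subgroup G).mul_mem x.2 ((P : Subgroup G).inv_mem y.2)) ?_))
    rw [sylow_comm h P _ x.2 _ ((P : Subgroup G).inv_mem y.2), ← smul_smul,
      show (x : G) • a = (y : G) • a from hxy, inv_smul_smul]
  · obtain ⟨x, hx, hxa⟩ := sylow_transitive h P a b
    exact ⟨⟨x, hx⟩, hxa⟩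

/-- Every involution fixes exactly one point. -/
theorem existsUnique_fixed {t : G} (ht : orderOf t = 2) : ∃! a : Ω, t • a = a := by
  have := Fintype.ofFinite Ω
  obtain ⟨a, ha⟩ := Equiv.Perm.exists_fixed_point_of_prime (p := 2) (n := 1)
    (σ := (MulAction.toPerm t : Equiv.Perm Ω))
    (by rw [← Nat.card_eq_fintype_card]; exact (odd_card h).not_two_dvd_nat)
    (Equiv.ext fun x => by
      rw [pow_one, pow_two, Equiv.Perm.mul_apply, MulAction.toPerm_apply, MulAction.toPerm_apply,
        smul_smul, sq_of_orderOf ht, one_smul]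
      rfl)
  rw [MulAction.toPerm_apply] at ha
  refine ⟨a, ha, fun b hb => ?_⟩
  obtain ⟨P, hP⟩ := exists_inverted_sylow h.cent h.noDefect ht
  obtain ⟨x, hx, rfl⟩ := sylow_transitive h P a b
  have h1 : x⁻¹ • a = x • a := by
    rw [← hP x hx, ← smul_smul, inv_smul_eq_iff.mpr ha.symm, ← smul_smul, hb]
  have h2 : x * x = 1 := eq_one_of_fixes h P (a := a) ((P : Subgroup G).mul_mem hx hx) (by
    rw [← smul_smul, ← h1, smul_inv_smul])
  obtain ⟨k, hk⟩ := exists_pow_of_mem P.isPGroup' hx
  have hodd : Odd (orderOf x) := hk ▸ ((Fact.out : p.Prime).odd_of_ne_two h.ne_two).pow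
  have h3 : orderOf x ∣ 2 := orderOf_dvd_of_pow_eq_one (by rw [pow_two, h2])
  rw [show x = 1 from orderOf_eq_one_iff.mp
    (Nat.eq_one_of_dvd_coprimes (Nat.coprime_two_right.mpr hodd) dvd_rfl h3), one_smul]

/-- An element fixing two points has odd order. -/
theorem odd_of_fixes {g : G} {a b : Ω} (hab : a ≠ b) (ha : g • a = a) (hb : g • b = b) :
    Odd (orderOf g) := by
  by_contra hodd
  rw [Nat.not_odd_iff_even] at hodd
  obtain ⟨m, hm⟩ := hodd.two_dvd
  have hv : orderOf (g ^ m) = 2 := by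
    rw [orderOf_pow' _ (by have := orderOf_pos g; omega), hm, Nat.gcd_eq_right ⟨2, by ring⟩]
    exact Nat.mul_div_left 2 (by have := orderOf_pos g; omega)
  have hfix : ∀ c : Ω, g • c = c → g ^ m • c = c := fun c hc =>
    MulAction.mem_stabilizer_iff.mp (Subgroup.pow_mem _ (MulAction.mem_stabilizer_iff.mpr hc) m)
  exact hab ((existsUnique_fixed h hv).unique (hfix a ha) (hfix b hb))

omit [FaithfulSMul G Ω] in
/-- Commuting involutions have the same fixed point. -/
theorem fixed_eq_of_commute {u v : G} (hu : orderOf u = 2) (huv : u * v = v * u) {c : Ω}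
    (hc : v • c = c) [FaithfulSMul G Ω] (hv : orderOf v = 2) : u • c = c :=
  (existsUnique_fixed h hv).unique (by rw [smul_smul, ← huv, ← smul_smul, hc]) hc

/-- A normal subgroup of order prime to `p` of a transitive subgroup is trivial. -/
theorem pPrimeCore_eq_bot (A : Subgroup G) (hA : MulAction.IsPretransitive A Ω) :
    Cfsg.pPrimeCore p A = ⊥ := by
  obtain ⟨r, -, hr⟩ := h.card
  haveI := nonempty h
  set N := Cfsg.pPrimeCore p A
  have hfix : ∀ (n : A), n ∈ N → ∀ a : Ω, (n : G) • a = a := by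
    intro n hn a
    have hd1 : (MulAction.orbit N a).ncard ∣ p ^ r :=
      hr ▸ (MulAction.IsBlock.orbit_of_normal (G := A) (N := N) a).ncard_dvd_card
        (MulAction.nonempty_orbit a)
    have hd2 : (MulAction.orbit N a).ncard ∣ Nat.card N := by
      rw [← MulAction.index_stabilizer]
      exact Subgroup.index_dvd_card _
    have hone : (MulAction.orbit N a).ncard = 1 :=
      Nat.eq_one_of_dvd_coprimes (Cfsg.Agent.Lib.PSolvable.card_pPrimeCore_coprime.pow_right r)
        hd2 hd1
    obtain ⟨b, hb⟩ := Set.ncard_eq_one.mp hone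
    have h1 : a ∈ MulAction.orbit N a := MulAction.mem_orbit_self a
    have h2 : (⟨n, hn⟩ : N) • a ∈ MulAction.orbit N a := MulAction.mem_orbit a _
    rw [hb, Set.mem_singleton_iff] at h1 h2
    show (⟨n, hn⟩ : N) • a = a
    rw [h2, ← h1]
  rw [Subgroup.eq_bot_iff_forall]
  intro n hn
  refine Subtype.ext (eq_of_smul_eq_smul (α := Ω) fun a => ?_)
  rw [hfix n hn a, OneMemClass.coe_one, one_smul]

/-- In a subgroup of odd order containing a Sylow subgroup, the latter is normal. -/
theorem sylow_normal_odd (P : Sylow p G) (A : Subgroup G) (hA : Odd (Nat.card A))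
    (hPA : (P : Subgroup G) ≤ A) :
    ∀ x ∈ A, ∀ y ∈ (P : Subgroup G), x * y * x⁻¹ ∈ (P : Subgroup G) := by
  haveI := Cfsg.Agent.Lib.OddOrder.FeitThompson.isSolvable_of_odd_card hA
  have htr : MulAction.IsPretransitive A Ω := ⟨fun a b => by
    obtain ⟨x, hx, hxa⟩ := sylow_transitive h P a b
    exact ⟨⟨x, hPA hx⟩, hxa⟩⟩
  have hHH := Cfsg.Agent.Lib.PSolvable.centralizer_pCore_le (p := p)
    (Cfsg.Agent.Lib.PSolvable.isPSolvable_of_isSolvable) (pPrimeCore_eq_bot h A htr)
  set V := (Cfsg.pCore p A).map A.subtype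
  have hVn : ∀ x ∈ A, ∀ v ∈ V, x * v * x⁻¹ ∈ V := by
    rintro x hx _ ⟨v, hv, rfl⟩
    exact ⟨⟨x, hx⟩ * v * (⟨x, hx⟩ : A)⁻¹,
      (inferInstance : (Cfsg.pCore p A).Normal).conj_mem v hv ⟨x, hx⟩, rfl⟩
  have hVP : V ≤ (P : Subgroup G) := by
    have hVp : IsPGroup p V := Cfsg.Agent.Lib.PSolvable.isPGroup_pCore.map _
    have hsup : IsPGroup p ((P : Subgroup G) ⊔ V : Subgroup G) := by
      refine P.isPGroup'.to_sup_of_normal_right' hVp fun g hg => ?_
      rw [mem_normalizer_iff]
      intro v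
      refine ⟨fun hv => hVn g (hPA hg) v hv, fun hv => ?_⟩
      have := hVn g⁻¹ (A.inv_mem (hPA hg)) _ hv
      simpa [mul_assoc] using this
    exact (le_sup_right : V ≤ (P : Subgroup G) ⊔ V).trans (P.is_maximal' hsup le_sup_left).le
  have hPV : (P : Subgroup G) ≤ V := fun y hy => by
    refine ⟨⟨y, hPA hy⟩, hHH (mem_centralizer_iff.mpr fun v hv => Subtype.ext ?_), rfl⟩
    exact sylow_comm h P v (hVP ⟨v, hv, rfl⟩) y hy
  intro x hx y hy
  exact hVP (hVn x hx y (hPV hy))

end

end Cfsg.Agent.Lib.OddCentTrans.Regular
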