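import Cfsg.Agent.Lib.OddCentTrans.Basic
import Cfsg.Agent.Lib.OddCentTrans.Count
import Cfsg.Agent.Lib.PSolvable.Basic
import Cfsg.Agent.Lib.PSolvable.HallHigman
import Cfsg.Agent.Lib.OddOrder.FeitThompson
import Mathlib.GroupTheory.GroupAction.Blocks

/-!
# Odd centralisers of `p`-elements in a transitive group of `p`-power degree
-/

set_option autoImplicit false
set_option linter.unusedSectionVars false
set_option linter.style.haveILetI false

namespace Cfsg.Agent.Lib.OddCentTrans.Setting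

open Subgroup
open Cfsg.Agent.Lib.OddCentTrans.Basic

universe u v

variable {G : Type u} [Group G] [Finite G] {p : ℕ} [Fact p.Prime]

/-- Centralisers of non-trivial `p`-elements have odd order. -/
def OddCent (p : ℕ) (G : Type u) [Group G] : Prop :=
  ∀ g : G, g ≠ 1 → (∃ k : ℕ, orderOf g = p ^ k) → Odd (Nat.card (centralizer ({g} : Set G)))

/-- No irreducible character has `p`-defect zero. -/
def NoDefectZero (p : ℕ) (G : Type u) [Group G] : Prop :=
  ∀ (χ : Cfsg.IrrCharacter G) (d : ℕ), (χ : G → ℂ) 1 = d →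
    ¬ p ^ (Nat.card G).factorization p ∣ d

theorem exists_pow_of_mem {R : Subgroup G} (hR : IsPGroup p R) {x : G} (hx : x ∈ R) :
    ∃ k : ℕ, orderOf x = p ^ k := by
  obtain ⟨a, ha⟩ := IsPGroup.iff_card.mp hR
  obtain ⟨k, -, hk⟩ := (Nat.dvd_prime_pow Fact.out).mp
    (ha ▸ Subgroup.orderOf_dvd_natCard _ hx : orderOf x ∣ p ^ a)
  exact ⟨k, hk⟩

section
variable (hC : OddCent p G)
include hC

theorem not_commute {t x : G} (ht : orderOf t = 2) (hx : x ≠ 1) (hxp : ∃ k : ℕ, orderOf x = p ^ k) :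
    t * x * t⁻¹ ≠ x := by
  intro h
  have hmem : t ∈ centralizer ({x} : Set G) :=
    mem_centralizer_singleton_iff.mpr (mul_inv_eq_iff_eq_mul.mp h)
  exact (hC x hx hxp).not_two_dvd_nat (ht ▸ Subgroup.orderOf_dvd_natCard _ hmem)

theorem not_dvd_centralizer {t : G} (ht : orderOf t = 2) :
    ¬ p ∣ Nat.card (centralizer ({t} : Set G)) := by
  intro h
  obtain ⟨x, hx⟩ := exists_prime_orderOf_dvd_card' (G := centralizer ({t} : Set G)) p h
  rw [← Subgroup.orderOf_coe] at hx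
  refine not_commute hC ht ?_ ⟨1, by rw [hx, pow_one]⟩ ?_ (x := (x : G))
  · intro h1
    rw [h1, orderOf_one] at hx
    exact (Fact.out : p.Prime).ne_one hx.symm
  · rw [← mem_centralizer_singleton_iff.mp x.2, mul_inv_cancel_right]

theorem inverts {t : G} (ht : orderOf t = 2) (R : Subgroup G) (hR : IsPGroup p R)
    (hn : ∀ x ∈ R, t * x * t⁻¹ ∈ R) : ∀ x ∈ R, t * x * t⁻¹ = x⁻¹ :=
  inverts_of_fixedPointFree R (sq_of_orderOf ht) hn fun x hx h => by
    by_contra h1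
    exact not_commute hC ht h1 (exists_pow_of_mem hR hx) h

theorem odd_centralizer_subgroup (Q : Subgroup G) (hQ : IsPGroup p Q) (hQ1 : Q ≠ ⊥) :
    Odd (Nat.card (centralizer (Q : Set G))) := by
  obtain ⟨z, hz, hz1⟩ := Q.bot_or_exists_ne_one.resolve_left hQ1
  exact Odd.of_dvd_nat (hC z hz1 (exists_pow_of_mem hQ hz))
    (Subgroup.card_dvd_of_le (centralizer_le (Set.singleton_subset_iff.mpr hz)))

/-- An element normalising a subgroup inverted by `t` is a product from `C(t)` and `C(Q)`. -/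
theorem decompose {t : G} (ht : orderOf t = 2) (Q : Subgroup G) (hQ : IsPGroup p Q) (hQ1 : Q ≠ ⊥)
    (hinv : ∀ q ∈ Q, t * q * t⁻¹ = q⁻¹) {x : G} (hx : ∀ q ∈ Q, x * q * x⁻¹ ∈ Q) :
    ∃ m c : G, m * t = t * m ∧ c ∈ centralizer (Q : Set G) ∧ x = m * c ∧
      ∀ y ∈ centralizer (Q : Set G), m * y * m⁻¹ ∈ centralizer (Q : Set G) := by
  set K := centralizer (Q : Set G)
  have ht2 := sq_of_orderOf ht
  have hs2 : (x⁻¹ * t * x) * (x⁻¹ * t * x) = 1 := by
    calc (x⁻¹ * t * x) * (x⁻¹ * t * x) = x⁻¹ * (t * t) * x := by group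
      _ = 1 := by rw [ht2]; group
  have hs : ∀ q ∈ Q, x⁻¹ * t * x * q * (x⁻¹ * t * x)⁻¹ = q⁻¹ := fun q hq => by
    calc x⁻¹ * t * x * q * (x⁻¹ * t * x)⁻¹ = x⁻¹ * (t * (x * q * x⁻¹) * t⁻¹) * x := by group
      _ = q⁻¹ := by rw [hinv _ (hx q hq)]; group
  have hts : t * (x⁻¹ * t * x) ∈ K := by
    rw [mem_centralizer_iff]
    intro q hq
    have h1 : t * (x⁻¹ * t * x) * q * (t * (x⁻¹ * t * x))⁻¹ = q := by
      calc t * (x⁻¹ * t * x) * q * (t * (x⁻¹ * t * x))⁻¹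
          = t * (x⁻¹ * t * x * q * (x⁻¹ * t * x)⁻¹) * t⁻¹ := by group
        _ = q := by rw [hs q hq, hinv _ (Q.inv_mem hq), inv_inv]
    exact (mul_inv_eq_iff_eq_mul.mp h1).symm
  have hodd : Odd (orderOf (t * (x⁻¹ * t * x))) :=
    Odd.of_dvd_nat (odd_centralizer_subgroup hC Q hQ hQ1) (Subgroup.orderOf_dvd_natCard _ hts)
  obtain ⟨j, hj⟩ := exists_conj_of_odd ht2 hs2 hodd
  set c := (t * (x⁻¹ * t * x)) ^ j with hc
  have hcK : c ∈ K := K.pow_mem hts j
  refine ⟨x * c⁻¹, c, ?_, hcK, by group, ?_⟩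
  · calc x * c⁻¹ * t = x * (c⁻¹ * t * c) * c⁻¹ := by group
      _ = t * (x * c⁻¹) := by rw [← hj]; group
  · intro y hy
    have hn : ∀ q ∈ Q, (x * c⁻¹) * q * (x * c⁻¹)⁻¹ = x * q * x⁻¹ := fun q hq => by
      have : c⁻¹ * q * c = q := by
        rw [mul_assoc, mem_centralizer_iff.mp hcK q hq, inv_mul_cancel_left]
      calc (x * c⁻¹) * q * (x * c⁻¹)⁻¹ = x * (c⁻¹ * q * c) * x⁻¹ := by group
        _ = _ := by rw [this]
    rw [mem_centralizer_iff]
    intro q hq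
    -- `q` is the image of an element of `Q`
    have hinj : Function.Injective fun a : Q => (⟨x * a * x⁻¹, hx a a.2⟩ : Q) := fun a b h => by
      have := congrArg Subtype.val h
      exact Subtype.ext (mul_left_cancel (mul_right_cancel this))
    obtain ⟨a, ha⟩ := (Finite.injective_iff_surjective.mp hinj) ⟨q, hq⟩
    have ha' : x * a * x⁻¹ = q := congrArg Subtype.val ha
    rw [← hn a a.2] at ha'
    set m := x * c⁻¹
    rw [← ha']
    calc m * a * m⁻¹ * (m * y * m⁻¹) = m * ((a : G) * y) * m⁻¹ := by group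
      _ = m * (y * (a : G)) * m⁻¹ := by rw [mem_centralizer_iff.mp hy a a.2]
      _ = _ := by group

theorem mem_centralizer_of_pow {t : G} (ht : orderOf t = 2) (Q : Subgroup G) (hQ : IsPGroup p Q)
    (hQ1 : Q ≠ ⊥) (hinv : ∀ q ∈ Q, t * q * t⁻¹ = q⁻¹) {x : G} (hx : ∀ q ∈ Q, x * q * x⁻¹ ∈ Q)
    {a : ℕ} (ha : x ^ p ^ a ∈ centralizer (Q : Set G)) : x ∈ centralizer (Q : Set G) := by
  obtain ⟨m, c, hmt, hc, rfl, hn⟩ := decompose hC ht Q hQ hQ1 hinv hx
  refine mem_of_mul _ hn hc (fun h => not_dvd_centralizer hC ht ?_) ha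
  exact h.trans (Subgroup.orderOf_dvd_natCard _ (mem_centralizer_singleton_iff.mpr hmt))

variable (hnd : NoDefectZero p G)
include hnd

/-- Without characters of `p`-defect zero every involution inverts a non-trivial `p`-element. -/
theorem exists_inverting {t : G} (ht : orderOf t = 2) :
    ∃ z : G, z ≠ 1 ∧ (∃ k : ℕ, orderOf z = p ^ k) ∧ t * z * t⁻¹ = z⁻¹ := by
  classical
  have := Fintype.ofFinite G
  set n := (Nat.card G).factorization p
  obtain ⟨r, hr, hGr⟩ : ∃ r, ¬ p ∣ r ∧ Nat.card G = p ^ n * r :=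
    ⟨_, Nat.not_dvd_ordCompl Fact.out Nat.card_pos.ne', (Nat.ordProj_mul_ordCompl_eq_self _ p).symm⟩
  set S := Finset.univ.filter (fun x : G => ∃ k : ℕ, orderOf x = p ^ k) with hSdef
  have hdvd := Count.dvd_count hGr hr hnd S
    (fun g x hx => Finset.mem_filter.mpr ⟨Finset.mem_univ _, by
      have := (Finset.mem_filter.mp hx).2
      rwa [show orderOf (g * x * g⁻¹) = orderOf x from (MulAut.conj g).orderOf_eq x]⟩)
    (fun χ => by
      obtain ⟨z, hz⟩ := Count.sum_pElements hGr hr χ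
      exact ⟨z, isIntegral_algebraMap (R := ℤ) (x := z), hz⟩)
    t t (not_dvd_centralizer hC ht)
  by_contra hne
  push Not at hne
  have h1 : (S.filter fun z => IsConj (t * z) t) = {1} := by
    ext z
    simp only [Finset.mem_filter, Finset.mem_singleton, hSdef, Finset.mem_univ, true_and]
    refine ⟨fun ⟨hz, hconj⟩ => ?_, fun h => ⟨⟨0, by simp [h]⟩, by rw [h, mul_one]⟩⟩
    by_contra hz1
    refine hne z hz1 hz ?_
    obtain ⟨c, hc⟩ := isConj_iff.mp hconj.symm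
    have h2 : (t * z) * (t * z) = 1 := by
      rw [← hc]
      calc c * t * c⁻¹ * (c * t * c⁻¹) = c * (t * t) * c⁻¹ := by group
        _ = 1 := by rw [sq_of_orderOf ht]; group
    rw [inv_eq_self (sq_of_orderOf ht)]
    exact eq_inv_of_mul_eq_one_left (by rw [← h2]; group)
  rw [h1, Finset.card_singleton] at hdvd
  exact (Fact.out : p.Prime).not_dvd_one hdvd

/-- Without characters of `p`-defect zero every involution inverts a Sylow `p`-subgroup. -/
theorem exists_inverted_sylow {t : G} (ht : orderOf t = 2) :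
    ∃ P : Sylow p G, ∀ x ∈ (P : Subgroup G), t * x * t⁻¹ = x⁻¹ := by
  classical
  obtain ⟨z, hz1, ⟨k, hk⟩, hzinv⟩ := exists_inverting hC hnd ht
  let T := {Q : Subgroup G // IsPGroup p Q ∧ ∀ x ∈ Q, t * x * t⁻¹ = x⁻¹}
  have hz : IsPGroup p (zpowers z) ∧ ∀ x ∈ zpowers z, t * x * t⁻¹ = x⁻¹ := by
    refine ⟨IsPGroup.of_card (n := k) (by rw [Nat.card_zpowers, hk]), ?_⟩
    rintro _ ⟨i, rfl⟩
    show t * z ^ i * t⁻¹ = (z ^ i)⁻¹
    rw [← conj_zpow, hzinv, inv_zpow]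
  haveI : Nonempty T := ⟨⟨_, hz⟩⟩
  obtain ⟨⟨Q, hQ, hQi⟩, hmax⟩ := Finite.exists_max (fun Q : T => Nat.card Q.1)
  have hQ1 : Q ≠ ⊥ := by
    intro h
    have := hmax ⟨_, hz⟩
    simp only [h, Subgroup.card_bot, Nat.card_zpowers] at this
    exact hz1 (orderOf_eq_one_iff.mp (le_antisymm this (orderOf_pos z)))
  obtain ⟨P, hP⟩ := hQ.exists_le_sylow
  rcases hP.eq_or_lt with rfl | hlt
  · exact ⟨P, hQi⟩
  exfalso
  haveI := P.isPGroup'.isNilpotent
  have hlt' : Q.subgroupOf (P : Subgroup G) < ⊤ := by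
    refine lt_top_iff_ne_top.mpr fun h => hlt.ne (le_antisymm hP fun x hx => ?_)
    have : (⟨x, hx⟩ : (P : Subgroup G)) ∈ Q.subgroupOf (P : Subgroup G) := h ▸ Subgroup.mem_top _
    exact this
  obtain ⟨x, hxn, hxQ⟩ := SetLike.exists_of_lt (Group.normalizerCondition_of_isNilpotent _ hlt')
  have hx : ∀ q ∈ Q, (x : G) * q * (x : G)⁻¹ ∈ Q := fun q hq => by
    have := (mem_normalizer_iff.mp hxn ⟨q, hP hq⟩).mp (Subgroup.mem_subgroupOf.mpr hq)
    exact this
  obtain ⟨a, ha⟩ := exists_pow_of_mem P.isPGroup' x.2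
  have hxK : (x : G) ∈ centralizer (Q : Set G) :=
    mem_centralizer_of_pow hC ht Q hQ hQ1 hQi hx (a := a)
      (by rw [← ha, pow_orderOf_eq_one]; exact one_mem _)
  set K := centralizer (Q : Set G)
  have htK : ∀ y ∈ K, t * y * t⁻¹ ∈ K := fun y hy => by
    rw [mem_centralizer_iff]
    intro q hq
    have h1 := mem_centralizer_iff.mp hy q⁻¹ (Q.inv_mem hq)
    have h2 : t * q⁻¹ * t⁻¹ = q := by rw [hQi _ (Q.inv_mem hq), inv_inv]
    calc q * (t * y * t⁻¹) = t * q⁻¹ * t⁻¹ * (t * y * t⁻¹) := by rw [h2]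
      _ = t * (q⁻¹ * y) * t⁻¹ := by group
      _ = t * (y * q⁻¹) * t⁻¹ := by rw [h1]
      _ = t * y * t⁻¹ * (t * q⁻¹ * t⁻¹) := by group
      _ = t * y * t⁻¹ * q := by rw [h2]
  obtain ⟨R, -, hR, hRt, hRcard, -⟩ := exists_invariant_sylow p K
    (odd_centralizer_subgroup hC Q hQ hQ1) (sq_of_orderOf ht) htK
  have hQK : Q ≤ K := fun q hq => mem_centralizer_iff.mpr fun q' hq' =>
    comm_of_inverts Q hQi q' hq' q hq
  have hSle : Q ⊔ zpowers (x : G) ≤ (P : Subgroup G) := sup_le hP (zpowers_le.mpr x.2)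
  have hdvd := hRcard (Q ⊔ zpowers (x : G)) (sup_le hQK (zpowers_le.mpr hxK))
    (P.isPGroup'.to_le hSle)
  have hlt2 : Nat.card Q < Nat.card R := by
    refine lt_of_lt_of_le ?_ (Nat.le_of_dvd Nat.card_pos hdvd)
    by_contra hle
    have := Subgroup.eq_of_le_of_card_ge (le_sup_left (b := zpowers (x : G))) (not_lt.mp hle)
    exact hxQ (Subgroup.mem_subgroupOf.mpr (this ▸ (le_sup_right : zpowers (x : G) ≤ Q ⊔ _)
      (mem_zpowers (x : G))))
  exact absurd (hmax ⟨R, hR, inverts hC ht R hR hRt⟩) (not_le.mpr hlt2)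

end

end Cfsg.Agent.Lib.OddCentTrans.Setting
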